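import Groth.Agent.Lib.CMReg18.Mult
import Groth.Agent.Lib.CMReg18.Vanish
import Groth.Agent.Lib.CohFound.SerreVan
import Groth.Agent.Lib.MumVan22.ChiTwist
import Groth.Agent.Lib.TensorMod.IdealMod
import Groth.Agent.Lib.Omega12.ConormalRank

/-!
# Lifting surjectivity of multiplication from a divisor
-/

set_option autoImplicit false
set_option linter.style.haveILetI false
set_option backward.isDefEq.respectTransparency false
set_option backward.isDefEq.respectTransparency.types false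
set_option maxHeartbeats 1200000

universe u

open CategoryTheory CategoryTheory.Limits AlgebraicGeometry TopologicalSpace Opposite MonoidalCategory

namespace Groth.Agent.MulDiv3

open Groth.Agent CurveCoh17

variable {X : Scheme.{u}} (I : X.IdealSheafData)

/-- The unit of the quotient by an ideal, as a section. -/
noncomputable abbrev u1 (U : X.Opens) : Γ(ClSub.quotMod I, U) := (ClSub.toSubscheme I).app U (M1.one U)

theorem u1_eq (U : X.Opens) : (show Γ(I.subscheme, I.subschemeι ⁻¹ᵁ U) from u1 I U) = 1 := by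
  show (show Γ(I.subscheme, I.subschemeι ⁻¹ᵁ U) from I.subschemeι.app U 1) = 1
  exact map_one _

/-- Multiplication on the quotient by an ideal. -/
noncomputable def mulQ : CohB1.tensorMod (ClSub.quotMod I) (ClSub.quotMod I) ⟶ ClSub.quotMod I :=
  M2.mkHom
    { f := fun U s t => (show Γ(I.subscheme, I.subschemeι ⁻¹ᵁ U) from s) * (show Γ(I.subscheme, I.subschemeι ⁻¹ᵁ U) from t)
      add_left := fun U s s' t => add_mul (show Γ(I.subscheme, I.subschemeι ⁻¹ᵁ U) from s)
        (show Γ(I.subscheme, I.subschemeι ⁻¹ᵁ U) from s') (show Γ(I.subscheme, I.subschemeι ⁻¹ᵁ U) from t)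
      smul_left := fun U r s t => mul_assoc (I.subschemeι.app U r)
        (show Γ(I.subscheme, I.subschemeι ⁻¹ᵁ U) from s) (show Γ(I.subscheme, I.subschemeι ⁻¹ᵁ U) from t)
      add_right := fun U s t t' => mul_add (show Γ(I.subscheme, I.subschemeι ⁻¹ᵁ U) from s)
        (show Γ(I.subscheme, I.subschemeι ⁻¹ᵁ U) from t) (show Γ(I.subscheme, I.subschemeι ⁻¹ᵁ U) from t')
      smul_right := fun U r s t => mul_left_comm (show Γ(I.subscheme, I.subschemeι ⁻¹ᵁ U) from s)
        (I.subschemeι.app U r) (show Γ(I.subscheme, I.subschemeι ⁻¹ᵁ U) from t)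
      compat := fun {U V} h s t => (map_mul (I.subscheme.presheaf.map (homOfLE (I.subschemeι.preimage_mono h)).op).hom
        (show Γ(I.subscheme, I.subschemeι ⁻¹ᵁ U) from s) (show Γ(I.subscheme, I.subschemeι ⁻¹ᵁ U) from t)).symm }

theorem mulQ_one {U : X.Opens} (t : Γ(ClSub.quotMod I, U)) :
    (mulQ I).app U (M2.tsec _ _ (u1 I U) t) = t := by
  rw [mulQ, M2.mkHom_tsec]
  show (show Γ(I.subscheme, I.subschemeι ⁻¹ᵁ U) from u1 I U) * (show Γ(I.subscheme, I.subschemeι ⁻¹ᵁ U) from t) = t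
  rw [u1_eq]
  exact one_mul _

/-- `M → M ⊗ Q`. -/
noncomputable def r (M : X.Modules) : M ⟶ CohB1.tensorMod M (ClSub.quotMod I) :=
  (M2.tensorRUnit M).inv ≫ M2.tensorMap (𝟙 M) (ClSub.toSubscheme I)

theorem r_app (M : X.Modules) {U : X.Opens} (m : Γ(M, U)) : (r I M).app U m = M2.tsec M _ m (u1 I U) := by
  show (M2.tensorMap (𝟙 M) (ClSub.toSubscheme I)).app U ((M2.tensorRUnit M).inv.app U m) = _
  rw [CMReg18.TwistData.rUnit_inv_app, M2.tensorMap_tsec]
  rfl

/-- Contraction `Q ⊗ (L ⊗ Q) → L ⊗ Q`. -/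
noncomputable def contr (L : X.Modules) :
    CohB1.tensorMod (ClSub.quotMod I) (CohB1.tensorMod L (ClSub.quotMod I)) ⟶ CohB1.tensorMod L (ClSub.quotMod I) :=
  (M2.tensorAssoc _ _ _).inv ≫ M2.tensorMap (M2.tensorComm (ClSub.quotMod I) L).hom (𝟙 _) ≫
    (M2.tensorAssoc _ _ _).hom ≫ M2.tensorMap (𝟙 L) (mulQ I)

/-- `M → Q ⊗ M`. -/
noncomputable def rl (M : X.Modules) : M ⟶ CohB1.tensorMod (ClSub.quotMod I) M :=
  (M2.tensorLUnit M).inv ≫ M2.tensorMap (ClSub.toSubscheme I) (𝟙 M)

theorem rl_app (M : X.Modules) {U : X.Opens} (m : Γ(M, U)) : (rl I M).app U m = M2.tsec _ M (u1 I U) m := by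
  show (M2.tensorMap (ClSub.toSubscheme I) (𝟙 M)).app U ((M2.tensorLUnit M).inv.app U m) = _
  rw [CMReg18.TwistData.lUnit_inv_app, M2.tensorMap_tsec]
  rfl

theorem assoc_inv_tsec (P M N : X.Modules) {U : X.Opens} (a : Γ(P, U)) (b : Γ(M, U)) (c : Γ(N, U)) :
    (M2.tensorAssoc P M N).inv.app U (M2.tsec P (CohB1.tensorMod M N) a (M2.tsec M N b c)) =
      M2.tsec (CohB1.tensorMod P M) N (M2.tsec P M a b) c := by
  rw [← VA11.tensorAssoc_tsec]
  exact congrArg (fun φ => φ.app U (M2.tsec (CohB1.tensorMod P M) N (M2.tsec P M a b) c))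
    (M2.tensorAssoc P M N).hom_inv_id

theorem rl_contr (L : X.Modules) : rl I (CohB1.tensorMod L (ClSub.quotMod I)) ≫ contr I L = 𝟙 _ := by
  refine M2.tensorMod_hom_ext fun U l q => ?_
  simp only [contr, Scheme.Modules.Hom.comp_app, CategoryTheory.comp_apply]
  rw [rl_app, assoc_inv_tsec, M2.tensorMap_tsec, CurveCoh17.tensorComm_tsec]
  simp only [Scheme.Modules.Hom.id_app, CategoryTheory.id_apply]
  rw [VA11.tensorAssoc_tsec, M2.tensorMap_tsec, mulQ_one]
  rfl

theorem exists_retraction (E L : X.Modules) :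
    ∃ B, M2.tensorMap (r I E) (𝟙 (CohB1.tensorMod L (ClSub.quotMod I))) ≫ B = 𝟙 _ := by
  refine ⟨(M2.tensorAssoc E (ClSub.quotMod I) _).hom ≫ M2.tensorMap (𝟙 E) (contr I L),
    M2.tensorMod_hom_ext fun U e m => ?_⟩
  have h2 : (contr I L).app U ((rl I _).app U m) = m := congrArg (fun φ => φ.app U m) (rl_contr I L)
  rw [rl_app] at h2
  simp only [Scheme.Modules.Hom.comp_app, CategoryTheory.comp_apply]
  rw [M2.tensorMap_tsec, r_app]
  simp only [Scheme.Modules.Hom.id_app, CategoryTheory.id_apply]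
  rw [VA11.tensorAssoc_tsec, M2.tensorMap_tsec, h2]
  rfl

open CMReg18.TwistData in
theorem surjective_mul (k : Type u) [CommRing k] [X.Over (Spec (CommRingCat.of k))]
    (hreg : Subsingleton (Coh.HH X (Coh.structureModule X) 1))
    (E : X.Modules) (hE : FlatMod.IsFinLocFree E) (L : X.Modules) (hLi : PicF.IsInvertible L)
    (hLI : ClSub.IsInverseOf L (ClSub.idealMod I))
    (h1 : Subsingleton (Coh.HH X (CohB1.tensorMod E (ClSub.idealMod I)) 1))
    (hD : Function.Surjective
      ((toSheafify (Opens.grothendieckTopology X) (CohB1.tensorPre (CohB1.tensorMod E (ClSub.quotMod I))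
        (CohB1.tensorMod L (ClSub.quotMod I))).presheaf).app (op ⊤))) :
    Function.Surjective ((toSheafify (Opens.grothendieckTopology X) (CohB1.tensorPre E L).presheaf).app (op ⊤)) := by
  obtain ⟨φ⟩ := hLI
  let S := ShortComplex.mk (ClSub.idealModι I) (ClSub.toSubscheme I) (kernel.condition _)
  have hS : S.ShortExact := M2.shortExact_idealMod I
  -- restriction to the divisor is surjective on global sections
  have hres : ∀ (M : X.Modules), (∀ x : X, Module.Flat (X.presheaf.stalk x) (M.presheaf.stalk x)) →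
      Subsingleton (Coh.HH X (CohB1.tensorMod M (ClSub.idealMod I)) 1) →
      Function.Surjective ((r I M).app (⊤ : X.Opens)) := by
    intro M hM hv y
    have hT := CurveCoh17.shortExact_tensorR hS M hM
    have hv' : Subsingleton (Coh.HH X (S.map (M2.tensorR M)).X₁ 1) :=
      CMReg18.van_iso k (M2.tensorComm M (ClSub.idealMod I)) hv
    obtain ⟨z, hz⟩ := ((exact_hmap_hdelta k hT 0)
      ((hh0 _).symm ((M2.tensorComm M (ClSub.quotMod I)).hom.app ⊤ y))).1 (@Subsingleton.elim _ hv' _ _)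
    refine ⟨(M2.tensorLUnit M).hom.app ⊤ (hh0 _ z), ?_⟩
    have h2 := congrArg (hh0 _) hz
    rw [hh0_hmap, AddEquiv.apply_symm_apply] at h2
    have h3 : (S.map (M2.tensorR M)).g = (M2.tensorLUnit M).hom ≫ r I M ≫ (M2.tensorComm M (ClSub.quotMod I)).hom :=
      M2.tensorMod_hom_ext fun U a m => by
        show (M2.tensorMap (ClSub.toSubscheme I) (𝟙 M)).app U (M2.tsec _ M a m) =
          (M2.tensorComm M (ClSub.quotMod I)).hom.app U ((r I M).app U
            ((M2.tensorLUnit M).hom.app U (M2.tsec (Coh.structureModule X) M a m)))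
        rw [M2.tensorMap_tsec, show (M2.tensorLUnit M).hom.app U (M2.tsec (Coh.structureModule X) M a m) =
          (show Γ(X, U) from a) • m from CurveCoh17.tensorLUnit_tsec _ _, r_app, CurveCoh17.tensorComm_tsec,
          M2.tsec_smul_right, ← M2.tsec_smul_left, ← Scheme.Modules.Hom.app_smul]
        show M2.tsec _ M ((ClSub.toSubscheme I).app U a) m = _
        congr 2
        exact (mul_one (show Γ(X, U) from a)).symm
    rw [h3] at h2
    have hinj : Function.Injective ((M2.tensorComm M (ClSub.quotMod I)).hom.app (⊤ : X.Opens)) := fun a b hab => by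
      have e := fun c => congrArg (fun ψ => ψ.app (⊤ : X.Opens) c) (M2.tensorComm M (ClSub.quotMod I)).hom_inv_id
      exact (e a).symm.trans ((congrArg _ hab).trans (e b))
    exact hinj h2
  have hflatE := fun x => KFlat.Sch.isFlat_of_isFinLocFree hE x
  have hflatL := fun x => CohFound.flat_stalk_invertible hLi x
  have hvL : Subsingleton (Coh.HH X (CohB1.tensorMod L (ClSub.idealMod I)) 1) := CMReg18.van_iso k φ.symm hreg
  -- the sequence `0 → O → L → L|D → 0`
  let σ : Coh.structureModule X ⟶ L :=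
    φ.inv ≫ (M2.tensorMap (𝟙 L) (ClSub.idealModι I)) ≫ (M2.tensorRUnit L).hom
  let g := M2.tensorMap (𝟙 E) (r I L)
  -- kernel of the restriction
  have hker : ∀ w : Γ(CohB1.tensorMod E L, (⊤ : X.Opens)), g.app ⊤ w = 0 → w ∈ prods E L := by
    intro w hw
    have hT := CurveCoh17.shortExact_tensorR (CurveCoh17.shortExact_tensorR hS L hflatL) E hflatE
    let T := (S.map (M2.tensorR L)).map (M2.tensorR E)
    let e2 : CohB1.tensorMod E L ⟶ T.X₂ :=
      (M2.tensorComm E L).hom ≫ M2.tensorMap (M2.tensorLUnit L).inv (𝟙 E)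
    let e3 : CohB1.tensorMod E (CohB1.tensorMod L (ClSub.quotMod I)) ⟶ T.X₃ :=
      (M2.tensorComm E _).hom ≫ M2.tensorMap (M2.tensorComm L (ClSub.quotMod I)).hom (𝟙 E)
    have hsq : e2 ≫ T.g = g ≫ e3 := M2.tensorMod_hom_ext fun U e l => by
      show (M2.tensorMap (M2.tensorMap (ClSub.toSubscheme I) (𝟙 L)) (𝟙 E)).app U
          ((M2.tensorMap (M2.tensorLUnit L).inv (𝟙 E)).app U ((M2.tensorComm E L).hom.app U (M2.tsec E L e l))) =
        (M2.tensorMap (M2.tensorComm L (ClSub.quotMod I)).hom (𝟙 E)).app U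
          ((M2.tensorComm E _).hom.app U (g.app U (M2.tsec E L e l)))
      rw [CurveCoh17.tensorComm_tsec, M2.tensorMap_tsec, M2.tensorMap_tsec, lUnit_inv_app, M2.tensorMap_tsec,
        show g.app U (M2.tsec E L e l) = M2.tsec E _ e ((r I L).app U l) from M2.tensorMap_tsec _ _ _ _,
        CurveCoh17.tensorComm_tsec, M2.tensorMap_tsec, r_app, CurveCoh17.tensorComm_tsec]
      rfl
    have h0 : T.g.app ⊤ (e2.app ⊤ w) = 0 := by
      have h := congrArg (fun ψ => ψ.app (⊤ : X.Opens) w) hsq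
      refine h.trans ?_
      show e3.app ⊤ (g.app ⊤ w) = 0
      rw [hw, map_zero]
    obtain ⟨z, hz⟩ := Omega12.exists_app_eq_of_shortExact hT ⊤ (e2.app ⊤ w) h0
    let τ : CohB1.tensorMod (CohB1.tensorMod (ClSub.idealMod I) L) E ⟶ CohB1.tensorMod E L :=
      M2.tensorMap ((M2.tensorComm (ClSub.idealMod I) L).hom ≫ φ.hom) (𝟙 E) ≫ (M2.tensorLUnit E).hom ≫
        (M2.tensorRUnit E).inv ≫ M2.tensorMap (𝟙 E) σ
    let d2 : T.X₂ ⟶ CohB1.tensorMod E L :=
      M2.tensorMap (M2.tensorLUnit L).hom (𝟙 E) ≫ (M2.tensorComm L E).hom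
    have hd : e2 ≫ d2 = 𝟙 _ := M2.tensorMod_hom_ext fun U e l => by
      show (M2.tensorComm L E).hom.app U ((M2.tensorMap (M2.tensorLUnit L).hom (𝟙 E)).app U
        ((M2.tensorMap (M2.tensorLUnit L).inv (𝟙 E)).app U ((M2.tensorComm E L).hom.app U (M2.tsec E L e l)))) = _
      rw [CurveCoh17.tensorComm_tsec, M2.tensorMap_tsec, M2.tensorMap_tsec, CurveCoh17.tensorComm_tsec,
        show (M2.tensorLUnit L).hom.app U ((M2.tensorLUnit L).inv.app U l) = l from
          congrArg (fun ψ => ψ.app U l) (M2.tensorLUnit L).inv_hom_id]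
      rfl
    have hτ : τ = T.f ≫ d2 := M2.tensorMod_hom_ext fun U jl e => by
      show (M2.tensorMap (𝟙 E) σ).app U ((M2.tensorRUnit E).inv.app U ((M2.tensorLUnit E).hom.app U
          ((M2.tensorMap ((M2.tensorComm (ClSub.idealMod I) L).hom ≫ φ.hom) (𝟙 E)).app U (M2.tsec _ E jl e)))) =
        (M2.tensorComm L E).hom.app U ((M2.tensorMap (M2.tensorLUnit L).hom (𝟙 E)).app U
          ((M2.tensorMap (M2.tensorMap (ClSub.idealModι I) (𝟙 L)) (𝟙 E)).app U (M2.tsec _ E jl e)))
      rw [M2.tensorMap_tsec, M2.tensorMap_tsec, M2.tensorMap_tsec, CurveCoh17.tensorComm_tsec,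
        show ∀ a : Γ(Coh.structureModule X, U), (M2.tensorLUnit E).hom.app U (M2.tsec (Coh.structureModule X) E a
          ((Scheme.Modules.Hom.app (𝟙 E) U) e)) = (show Γ(X, U) from a) • e from
          fun a => CurveCoh17.tensorLUnit_tsec _ _,
        rUnit_inv_app, M2.tensorMap_tsec]
      show M2.tsec E L ((show Γ(X, U) from
          ((M2.tensorComm (ClSub.idealMod I) L).hom ≫ φ.hom).app U jl) • e) (σ.app U (M1.one U)) = M2.tsec E L e _
      rw [M2.tsec_smul_left, ← M2.tsec_smul_right, ← Scheme.Modules.Hom.app_smul]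
      congr 1
      have hone : ∀ a : Γ(Coh.structureModule X, U), (show Γ(X, U) from a) • M1.one U = a :=
        fun a => mul_one (show Γ(X, U) from a)
      rw [hone]
      have key : ((M2.tensorComm (ClSub.idealMod I) L).hom ≫ φ.hom) ≫ σ =
          M2.tensorMap (ClSub.idealModι I) (𝟙 L) ≫ (M2.tensorLUnit L).hom := by
        simp only [σ, Category.assoc, Iso.hom_inv_id_assoc]
        refine M2.tensorMod_hom_ext fun V j l => ?_
        show (M2.tensorRUnit L).hom.app V ((M2.tensorMap (𝟙 L) (ClSub.idealModι I)).app V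
            ((M2.tensorComm (ClSub.idealMod I) L).hom.app V (M2.tsec _ L j l))) =
          (M2.tensorLUnit L).hom.app V ((M2.tensorMap (ClSub.idealModι I) (𝟙 L)).app V (M2.tsec _ L j l))
        rw [CurveCoh17.tensorComm_tsec, M2.tensorMap_tsec, M2.tensorMap_tsec, VA11.tensorRUnit_tsec]
        exact (CurveCoh17.tensorLUnit_tsec _ _).symm
      exact congrArg (fun ψ => ψ.app U jl) key
    have hwz : w = τ.app ⊤ z := by
      rw [hτ]
      show w = d2.app ⊤ (T.f.app ⊤ z)
      rw [hz]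
      exact (congrArg (fun ψ => ψ.app (⊤ : X.Opens) w) hd).symm
    rw [hwz]
    show (M2.tensorMap (𝟙 E) σ).app ⊤ ((M2.tensorRUnit E).inv.app ⊤ _) ∈ prods E L
    rw [rUnit_inv_app, M2.tensorMap_tsec]
    exact tsec_mem_prods _ _
  refine prods_surjective fun y => ?_
  obtain ⟨B, hB⟩ := exists_retraction I E L
  let LQ := CohB1.tensorMod L (ClSub.quotMod I)
  let EQ := CohB1.tensorMod E (ClSub.quotMod I)
  let h := M2.tensorMap (r I E) (𝟙 LQ)
  have hhinj : Function.Injective (h.app (⊤ : X.Opens)) := fun a b hab => by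
    have e := fun c => congrArg (fun ψ => ψ.app (⊤ : X.Opens) c) hB
    exact (e a).symm.trans ((congrArg _ hab).trans (e b))
  suffices H : ∀ z : Γ(CohB1.tensorMod EQ LQ, (⊤ : X.Opens)), ∃ p ∈ prods E L, h.app ⊤ (g.app ⊤ p) = z by
    obtain ⟨p, hp, hpy⟩ := H (h.app ⊤ (g.app ⊤ y))
    have := hker (y - p) (by rw [map_sub, hhinj hpy, sub_self])
    simpa using add_mem this hp
  intro z
  obtain ⟨t, rfl⟩ := hD z
  induction t using TensorProduct.induction_on with
  | zero => exact ⟨0, zero_mem _, by rw [map_zero, map_zero, map_zero]⟩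
  | tmul a b =>
    obtain ⟨e, rfl⟩ := hres E hflatE h1 a
    obtain ⟨l, rfl⟩ := hres L hflatL hvL b
    refine ⟨M2.tsec E L e l, tsec_mem_prods _ _, ?_⟩
    show (M2.tensorMap (r I E) (𝟙 LQ)).app ⊤ ((M2.tensorMap (𝟙 E) (r I L)).app ⊤ (M2.tsec E L e l)) = _
    rw [M2.tensorMap_tsec, M2.tensorMap_tsec]
    rfl
  | add a b ha hb =>
    obtain ⟨p, hp, hpa⟩ := ha
    obtain ⟨p', hp', hpb⟩ := hb
    exact ⟨p + p', add_mem hp hp', by rw [map_add, map_add, hpa, hpb, map_add]⟩

end Groth.Agent.MulDiv3
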